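import Groth.Agent.Lib.Helper5.LL.LL2
import Groth.Agent.Lib.Helper5.AL.AL9

universe u

namespace H5.LL

open AlgebraicGeometry CategoryTheory IsLocalRing

variable {X Y : Scheme.{u}}

set_option backward.defeqAttrib.useBackward true in
set_option backward.isDefEq.respectTransparency false in
lemma exists_unramified_nhd (f : X ⟶ Y) [LocallyOfFiniteType f] (x : X)
    (H2 : (f.stalkMap x).hom.FormallyUnramified) :
    ∃ W : X.Opens, x ∈ W ∧ FormallyUnramified (W.ι ≫ f) := by
  obtain ⟨_, ⟨U, hU, rfl⟩, hxU, -⟩ :=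
    Y.isBasis_affineOpens.exists_subset_of_mem_open (Set.mem_univ (f x)) isOpen_univ
  obtain ⟨_, ⟨V, hV, rfl⟩, hxV, hVU⟩ :=
    X.isBasis_affineOpens.exists_subset_of_mem_open hxU (U.2.preimage f.continuous)
  have := f.finiteType_appLE hU hV hVU
  algebraize [(f.appLE U V hVU).hom]
  have h2 : Algebra.IsUnramifiedAt _ _ :=
    (H5.AL.formallyUnramified_stalkMap_iff U hU V hV hVU hxV).mp H2
  obtain ⟨r, hrx, hr⟩ := Algebra.exists_formallyUnramified_of_isUnramifiedAt (R := Γ(Y, U))
    (hV.primeIdealOf ⟨x, hxV⟩).asIdeal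
  have e : X.basicOpen r ≤ f ⁻¹ᵁ U := (X.basicOpen_le r).trans hVU
  refine ⟨X.basicOpen r, ?_, ?_⟩
  · rwa [← PrimeSpectrum.mem_basicOpen, IsAffineOpen.primeIdealOf,
      ← hV.fromSpec_preimage_basicOpen, Scheme.Hom.mem_preimage, ← Scheme.Hom.comp_apply,
      IsAffineOpen.isoSpec_hom, IsAffineOpen.toSpecΓ_fromSpec] at hrx
  · rw [← Scheme.Hom.resLE_comp_ι f e]
    haveI : FormallyUnramified (f.resLE U (X.basicOpen r) e) := by
      have : IsAffine _ := hU
      have : IsAffine _ := hV.basicOpen r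
      rw [HasRingHomProperty.iff_of_isAffine (P := @FormallyUnramified)]
      refine (RingHom.FormallyUnramified.propertyIsLocal.respectsIso.arrow_mk_iso_iff
        (arrowResLEAppIso f U _ e)).mpr ?_
      have := hV.isLocalization_basicOpen r
      rw [← RingHom.formallyUnramified_algebraMap] at hr
      convert!
        RingHom.FormallyUnramified.propertyIsLocal.respectsIso.1 _
          (IsLocalization.algEquiv (.powers r) _ Γ(X, X.basicOpen r)).toRingEquiv hr
      ext
      dsimp
      simp only [IsScalarTower.algebraMap_apply Γ(Y, U) Γ(X, V) (Localization _),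
        IsLocalization.map_eq]
      simp only [RingHom.algebraMap_toAlgebra, RingHomCompTriple.comp_apply, ← ConcreteCategory.comp_apply,
        Scheme.Hom.appLE_map]
    haveI : FormallyUnramified (Scheme.Opens.ι U) := inferInstance
    exact MorphismProperty.comp_mem _ _ _ ‹FormallyUnramified (f.resLE U (X.basicOpen r) e)›
      ‹FormallyUnramified (Scheme.Opens.ι U)›

theorem exists_unramified_nhd_iff (f : X ⟶ Y) [LocallyOfFiniteType f] (x : X) :
    (∃ U : X.Opens, x ∈ U ∧ FormallyUnramified (U.ι ≫ f)) ↔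
      (f.stalkMap x).hom.FormallyUnramified := by
  constructor
  · rintro ⟨U, hxU, het⟩
    have h1 := FormallyUnramified.stalkMap (U.ι ≫ f) ⟨x, hxU⟩
    exact (H5.AL.formallyUnramified_stalkMap_comp U.ι f ⟨x, hxU⟩).2 h1
  · exact exists_unramified_nhd f x

end H5.LL
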