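import Groth.Agent.Lib.Helper5.AL.AL3

universe u

namespace H5.LL

open IsLocalRing

/-- local lifting property for a ring hom (test rings local, square-zero surjections). -/
def LocalLift {A S : Type u} [CommRing A] [CommRing S] (ψ : A →+* S) : Prop :=
  ∀ (B B' : Type u) [CommRing B] [CommRing B'] [IsLocalRing B] [IsLocalRing B'] (φ : B' →+* B),
    Function.Surjective φ → RingHom.ker φ ^ 2 = ⊥ →
    ∀ (a : S →+* B) (b : A →+* B'), IsLocalHom a → φ.comp b = a.comp ψ →
      ∃ c : S →+* B', φ.comp c = a ∧ c.comp ψ = b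

/-- local uniqueness of lifts. -/
def LocalUnique {A S : Type u} [CommRing A] [CommRing S] (ψ : A →+* S) : Prop :=
  ∀ (B B' : Type u) [CommRing B] [CommRing B'] [IsLocalRing B] [IsLocalRing B'] (φ : B' →+* B),
    Function.Surjective φ → RingHom.ker φ ^ 2 = ⊥ →
    ∀ (a : S →+* B) (b : A →+* B'), IsLocalHom a → φ.comp b = a.comp ψ →
      ∀ c₁ c₂ : S →+* B', φ.comp c₁ = a → c₁.comp ψ = b → φ.comp c₂ = a → c₂.comp ψ = b → c₁ = c₂

section fib

variable {A S C : Type u} [CommRing A] [CommRing S] [CommRing C] [Algebra A S] [Algebra A C]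
  (I : Ideal C) (g₀ : S →ₐ[A] C ⧸ I)

/-- the fibre product `S ×_{C/I} C`. -/
abbrev Fib : Subalgebra A (S × C) :=
  AlgHom.equalizer (g₀.comp (AlgHom.fst A S C)) ((Ideal.Quotient.mkₐ A I).comp (AlgHom.snd A S C))

theorem mem_Fib (x : S × C) : x ∈ Fib I g₀ ↔ g₀ x.1 = Ideal.Quotient.mk I x.2 := Iff.rfl

/-- first projection. -/
def fibFst : Fib I g₀ →ₐ[A] S := (AlgHom.fst A S C).comp (Fib I g₀).val

/-- second projection. -/
def fibSnd : Fib I g₀ →ₐ[A] C := (AlgHom.snd A S C).comp (Fib I g₀).val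

theorem fibFst_apply (x : Fib I g₀) : fibFst I g₀ x = x.1.1 := rfl
theorem fibSnd_apply (x : Fib I g₀) : fibSnd I g₀ x = x.1.2 := rfl

theorem fibFst_surjective : Function.Surjective (fibFst I g₀) := by
  intro s
  obtain ⟨c, hc⟩ := Ideal.Quotient.mk_surjective (g₀ s)
  exact ⟨⟨(s, c), (mem_Fib I g₀ _).2 hc.symm⟩, rfl⟩

theorem fib_mul_eq_zero (hI : I ^ 2 = ⊥) (x y : Fib I g₀) (hx : fibFst I g₀ x = 0)
    (hy : fibFst I g₀ y = 0) : x * y = 0 := by
  have hx2 : x.1.2 ∈ I := by
    have := (mem_Fib I g₀ _).1 x.2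
    rw [fibFst_apply] at hx
    rw [hx, map_zero, eq_comm, Ideal.Quotient.eq_zero_iff_mem] at this
    exact this
  have hy2 : y.1.2 ∈ I := by
    have := (mem_Fib I g₀ _).1 y.2
    rw [fibFst_apply] at hy
    rw [hy, map_zero, eq_comm, Ideal.Quotient.eq_zero_iff_mem] at this
    exact this
  apply Subtype.ext
  apply Prod.ext
  · change x.1.1 * y.1.1 = 0
    rw [fibFst_apply] at hx
    rw [hx, zero_mul]
  · change x.1.2 * y.1.2 = 0
    have : x.1.2 * y.1.2 ∈ I ^ 2 := by
      rw [pow_two]; exact Ideal.mul_mem_mul hx2 hy2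
    rw [hI] at this
    exact this

theorem ker_fibFst_sq (hI : I ^ 2 = ⊥) : RingHom.ker (fibFst I g₀).toRingHom ^ 2 = ⊥ := by
  rw [eq_bot_iff, pow_two, Ideal.mul_le]
  intro x hx y hy
  rw [Ideal.mem_bot]
  exact fib_mul_eq_zero I g₀ hI x y hx hy

theorem isLocalRing_Fib [IsLocalRing S] (hI : I ^ 2 = ⊥) : IsLocalRing (Fib I g₀) := by
  haveI : IsLocalHom (fibFst I g₀).toRingHom :=
    H5.AL.isLocalHom_of_sq_zero (fibFst I g₀).toRingHom (fibFst_surjective I g₀)
      (fun x y hx hy => fib_mul_eq_zero I g₀ hI x y hx hy)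
  exact RingHom.domain_isLocalRing (fibFst I g₀).toRingHom

/-- the section induced by a lift. -/
def fibLift (g : S →ₐ[A] C) (hg : (Ideal.Quotient.mkₐ A I).comp g = g₀) : S →ₐ[A] Fib I g₀ :=
  AlgHom.codRestrict ((AlgHom.id A S).prod g) (Fib I g₀)
    (fun s => (mem_Fib I g₀ _).2 (AlgHom.congr_fun hg s).symm)

theorem fibSnd_fibLift (g : S →ₐ[A] C) (hg : (Ideal.Quotient.mkₐ A I).comp g = g₀) (s : S) :
    fibSnd I g₀ (fibLift I g₀ g hg s) = g s := rfl

theorem fibFst_fibLift (g : S →ₐ[A] C) (hg : (Ideal.Quotient.mkₐ A I).comp g = g₀) (s : S) :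
    fibFst I g₀ (fibLift I g₀ g hg s) = s := rfl

end fib

theorem formallySmooth_iff_localLift {A S : Type u} [CommRing A] [CommRing S] [IsLocalRing S]
    (ψ : A →+* S) : ψ.FormallySmooth ↔ LocalLift ψ := by
  letI := ψ.toAlgebra
  constructor
  · intro hfs B B' _ _ _ _ φ hφ hker a b _ hcomp
    haveI : Algebra.FormallySmooth A S := hfs
    letI := b.toAlgebra
    letI : Algebra A B := (φ.comp b).toAlgebra
    let a' : S →ₐ[A] B := { a with commutes' := fun r => (RingHom.congr_fun hcomp r).symm }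
    let φ' : B' →ₐ[A] B := { φ with commutes' := fun r => rfl }
    have hnil : IsNilpotent (RingHom.ker (φ' : B' →+* B)) := ⟨2, hker⟩
    refine ⟨(Algebra.FormallySmooth.liftOfSurjective a' φ' hφ hnil).toRingHom, ?_, ?_⟩
    · ext s
      exact Algebra.FormallySmooth.liftOfSurjective_apply a' φ' hφ hnil s
    · ext r
      exact (Algebra.FormallySmooth.liftOfSurjective a' φ' hφ hnil).commutes r
  · intro H
    change Algebra.FormallySmooth A S
    apply Algebra.FormallySmooth.of_comp_surjective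
    intro C _ _ I hI g₀
    haveI := isLocalRing_Fib I g₀ hI
    obtain ⟨c, hc1, hc2⟩ := H S (Fib I g₀) (fibFst I g₀).toRingHom (fibFst_surjective I g₀)
      (ker_fibFst_sq I g₀ hI) (RingHom.id S) (algebraMap A (Fib I g₀)) inferInstance
      (RingHom.ext fun r => (fibFst I g₀).commutes r)
    let c' : S →ₐ[A] Fib I g₀ := { c with commutes' := fun r => RingHom.congr_fun hc2 r }
    refine ⟨(fibSnd I g₀).comp c', ?_⟩
    ext s
    have h1 : (c s).1.1 = s := RingHom.congr_fun hc1 s
    have h2 := (mem_Fib I g₀ _).1 (c s).2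
    rw [h1] at h2
    exact h2.symm

theorem formallyUnramified_iff_localUnique {A S : Type u} [CommRing A] [CommRing S] [IsLocalRing S]
    (ψ : A →+* S) : ψ.FormallyUnramified ↔ LocalUnique ψ := by
  letI := ψ.toAlgebra
  constructor
  · intro hfs B B' _ _ _ _ φ hφ hker a b _ hcomp c₁ c₂ h1 h1' h2 h2'
    haveI : Algebra.FormallyUnramified A S := hfs
    letI := b.toAlgebra
    let c₁' : S →ₐ[A] B' := { c₁ with commutes' := fun r => RingHom.congr_fun h1' r }
    let c₂' : S →ₐ[A] B' := { c₂ with commutes' := fun r => RingHom.congr_fun h2' r }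
    have hnil : IsNilpotent (RingHom.ker φ) := ⟨2, hker⟩
    have := Algebra.FormallyUnramified.lift_unique_of_ringHom φ hnil c₁' c₂' (h1.trans h2.symm)
    ext s
    exact AlgHom.congr_fun this s
  · intro H
    change Algebra.FormallyUnramified A S
    rw [Algebra.FormallyUnramified.iff_comp_injective]
    intro C _ _ I hI g₁ g₂ hg
    set g₀ := (Ideal.Quotient.mkₐ A I).comp g₂ with hg₀
    haveI := isLocalRing_Fib I g₀ hI
    let c₁ := fibLift I g₀ g₁ hg
    let c₂ := fibLift I g₀ g₂ rfl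
    have := H S (Fib I g₀) (fibFst I g₀).toRingHom (fibFst_surjective I g₀)
      (ker_fibFst_sq I g₀ hI) (RingHom.id S) (algebraMap A (Fib I g₀)) inferInstance
      (RingHom.ext fun r => (fibFst I g₀).commutes r) c₁.toRingHom c₂.toRingHom
      (RingHom.ext fun s => rfl) (RingHom.ext fun r => c₁.commutes r) (RingHom.ext fun s => rfl)
      (RingHom.ext fun r => c₂.commutes r)
    ext s
    have h3 : c₁ s = c₂ s := RingHom.congr_fun this s
    have h4 := congrArg (fibSnd I g₀) h3
    exact h4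

end H5.LL
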