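import Groth.Agent.Lib.Helper5.LL.LL1

universe u

namespace H5.LL

open AlgebraicGeometry CategoryTheory IsLocalRing

variable {X Y : Scheme.{u}}

lemma exists_factor {R : Type u} [CommRing R] [IsLocalRing R] (g : Spec (CommRingCat.of R) ⟶ X)
    (x : X) (hx : g.base (closedPoint R) = x) :
    ∃ c : X.presheaf.stalk x ⟶ CommRingCat.of R, IsLocalHom c.hom ∧
      Spec.map c ≫ X.fromSpecStalk x = g := by
  subst hx
  exact ⟨Scheme.stalkClosedPointTo g, inferInstance, Scheme.Spec_stalkClosedPointTo_fromSpecStalk g⟩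

lemma eq_of_SpecMap_fromSpecStalk {R : CommRingCat.{u}} {x : X} (c₁ c₂ : X.presheaf.stalk x ⟶ R)
    (h : Spec.map c₁ ≫ X.fromSpecStalk x = Spec.map c₂ ≫ X.fromSpecStalk x) : c₁ = c₂ :=
  Spec.map_injective ((cancel_mono (X.fromSpecStalk x)).1 h)

lemma closedPoint_of_surj {B B' : Type u} [CommRing B] [CommRing B'] [IsLocalRing B] [IsLocalRing B']
    (φ : B' →+* B) (hφ : Function.Surjective φ) :
    (Spec.map (CommRingCat.ofHom φ)).base (closedPoint B) = closedPoint B' := by
  haveI : IsLocalHom φ := IsLocalHom.of_surjective φ hφ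
  haveI : IsLocalHom (CommRingCat.ofHom φ).hom := ‹IsLocalHom φ›
  exact Spec_closedPoint (R := CommRingCat.of B') (S := CommRingCat.of B) (f := CommRingCat.ofHom φ)

/-- The scheme-level lifting property is equivalent to the stalk-level one. -/
theorem schemeLift_iff (f : X ⟶ Y) (x : X) :
    (∀ (B B' : Type u) [CommRing B] [CommRing B'] [IsLocalRing B] [IsLocalRing B'] (φ : B' →+* B),
      Function.Surjective φ → RingHom.ker φ ^ 2 = ⊥ →
      ∀ (α : Spec (CommRingCat.of B) ⟶ X) (β : Spec (CommRingCat.of B') ⟶ Y),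
        α.base (IsLocalRing.closedPoint B) = x → Spec.map (CommRingCat.ofHom φ) ≫ β = α ≫ f →
        ∃ γ : Spec (CommRingCat.of B') ⟶ X, Spec.map (CommRingCat.ofHom φ) ≫ γ = α ∧ γ ≫ f = β) ↔
    LocalLift (f.stalkMap x).hom := by
  constructor
  · intro H B B' _ _ _ _ φ hφ hker a b ha hcomp
    haveI : IsLocalHom (CommRingCat.ofHom a).hom := ha
    let α : Spec (CommRingCat.of B) ⟶ X := Spec.map (CommRingCat.ofHom a) ≫ X.fromSpecStalk x
    let β : Spec (CommRingCat.of B') ⟶ Y := Spec.map (CommRingCat.ofHom b) ≫ Y.fromSpecStalk (f.base x)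
    have hα : α.base (closedPoint B) = x := by
      change (X.fromSpecStalk x).base ((Spec.map (CommRingCat.ofHom a)).base (closedPoint B)) = x
      rw [Spec_closedPoint (f := CommRingCat.ofHom a)]
      exact Scheme.fromSpecStalk_closedPoint
    have hsq : Spec.map (CommRingCat.ofHom φ) ≫ β = α ≫ f := by
      change Spec.map (CommRingCat.ofHom φ) ≫ Spec.map (CommRingCat.ofHom b) ≫ _ =
        (Spec.map (CommRingCat.ofHom a) ≫ X.fromSpecStalk x) ≫ f
      rw [Category.assoc, ← Scheme.SpecMap_stalkMap_fromSpecStalk, ← Category.assoc,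
        ← Category.assoc, ← Spec.map_comp, ← Spec.map_comp]
      congr 2
      ext r
      exact RingHom.congr_fun hcomp r
    obtain ⟨γ, hγ1, hγ2⟩ := H B B' φ hφ hker α β hα hsq
    have hγx : γ.base (closedPoint B') = x := by
      rw [← closedPoint_of_surj φ hφ, ← hα, ← hγ1]
      rfl
    obtain ⟨c, hcloc, hc⟩ := exists_factor γ x hγx
    refine ⟨c.hom, ?_, ?_⟩
    · have : c ≫ CommRingCat.ofHom φ = CommRingCat.ofHom a := by
        apply eq_of_SpecMap_fromSpecStalk
        rw [Spec.map_comp, Category.assoc, hc, hγ1]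
      ext s
      exact congrArg (fun g => g.hom s) this
    · have : f.stalkMap x ≫ c = CommRingCat.ofHom b := by
        apply eq_of_SpecMap_fromSpecStalk
        rw [Spec.map_comp, Category.assoc, Scheme.SpecMap_stalkMap_fromSpecStalk, ← Category.assoc, hc,
          hγ2]
      ext r
      exact congrArg (fun g => g.hom r) this
  · intro H B B' _ _ _ _ φ hφ hker α β hα hsq
    obtain ⟨a, haloc, ha⟩ := exists_factor α x hα
    have hβ : β.base (closedPoint B') = f.base x := by
      rw [← closedPoint_of_surj φ hφ, ← hα]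
      change (Spec.map (CommRingCat.ofHom φ) ≫ β).base (closedPoint B) = (α ≫ f).base (closedPoint B)
      rw [hsq]
    obtain ⟨b, hbloc, hb⟩ := exists_factor β (f.base x) hβ
    have hcomp : b ≫ CommRingCat.ofHom φ = f.stalkMap x ≫ a := by
      apply eq_of_SpecMap_fromSpecStalk
      rw [Spec.map_comp, Category.assoc, hb, hsq, Spec.map_comp, Category.assoc,
        Scheme.SpecMap_stalkMap_fromSpecStalk, ← Category.assoc, ha]
    obtain ⟨c, hc1, hc2⟩ := H B B' φ hφ hker a.hom b.hom haloc (by
      ext r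
      exact congrArg (fun g => g.hom r) hcomp)
    refine ⟨Spec.map (CommRingCat.ofHom c) ≫ X.fromSpecStalk x, ?_, ?_⟩
    · rw [← Category.assoc, ← Spec.map_comp, ← ha]
      congr 2
      ext s
      exact RingHom.congr_fun hc1 s
    · rw [Category.assoc, ← Scheme.SpecMap_stalkMap_fromSpecStalk, ← Category.assoc, ← Spec.map_comp,
        ← hb]
      congr 2
      ext r
      exact RingHom.congr_fun hc2 r

end H5.LL

namespace H5.LL

open AlgebraicGeometry CategoryTheory IsLocalRing

variable {X Y : Scheme.{u}}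

/-- The scheme-level uniqueness property is equivalent to the stalk-level one. -/
theorem schemeUnique_iff (f : X ⟶ Y) (x : X) :
    (∀ (B B' : Type u) [CommRing B] [CommRing B'] [IsLocalRing B] [IsLocalRing B'] (φ : B' →+* B),
      Function.Surjective φ → RingHom.ker φ ^ 2 = ⊥ →
      ∀ (α : Spec (CommRingCat.of B) ⟶ X) (β : Spec (CommRingCat.of B') ⟶ Y),
        α.base (IsLocalRing.closedPoint B) = x → Spec.map (CommRingCat.ofHom φ) ≫ β = α ≫ f →
        ∀ γ₁ γ₂ : Spec (CommRingCat.of B') ⟶ X,
          Spec.map (CommRingCat.ofHom φ) ≫ γ₁ = α → γ₁ ≫ f = β →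
          Spec.map (CommRingCat.ofHom φ) ≫ γ₂ = α → γ₂ ≫ f = β → γ₁ = γ₂) ↔
    LocalUnique (f.stalkMap x).hom := by
  constructor
  · intro H B B' _ _ _ _ φ hφ hker a b ha hcomp c₁ c₂ h1 h1' h2 h2'
    haveI : IsLocalHom (CommRingCat.ofHom a).hom := ha
    let α : Spec (CommRingCat.of B) ⟶ X := Spec.map (CommRingCat.ofHom a) ≫ X.fromSpecStalk x
    let β : Spec (CommRingCat.of B') ⟶ Y := Spec.map (CommRingCat.ofHom b) ≫ Y.fromSpecStalk (f.base x)
    have hα : α.base (closedPoint B) = x := by
      change (X.fromSpecStalk x).base ((Spec.map (CommRingCat.ofHom a)).base (closedPoint B)) = x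
      rw [Spec_closedPoint (f := CommRingCat.ofHom a)]
      exact Scheme.fromSpecStalk_closedPoint
    have hsq : Spec.map (CommRingCat.ofHom φ) ≫ β = α ≫ f := by
      change Spec.map (CommRingCat.ofHom φ) ≫ Spec.map (CommRingCat.ofHom b) ≫ _ =
        (Spec.map (CommRingCat.ofHom a) ≫ X.fromSpecStalk x) ≫ f
      rw [Category.assoc, ← Scheme.SpecMap_stalkMap_fromSpecStalk, ← Category.assoc,
        ← Category.assoc, ← Spec.map_comp, ← Spec.map_comp]
      congr 2
      ext r
      exact RingHom.congr_fun hcomp r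
    have key : ∀ c : (X.presheaf.stalk x) →+* B', φ.comp c = a → c.comp (f.stalkMap x).hom = b →
        Spec.map (CommRingCat.ofHom φ) ≫ (Spec.map (CommRingCat.ofHom c) ≫ X.fromSpecStalk x) = α ∧
        (Spec.map (CommRingCat.ofHom c) ≫ X.fromSpecStalk x) ≫ f = β := by
      intro c hc1 hc2
      constructor
      · rw [← Category.assoc, ← Spec.map_comp]
        congr 2
        ext s
        exact RingHom.congr_fun hc1 s
      · rw [Category.assoc, ← Scheme.SpecMap_stalkMap_fromSpecStalk, ← Category.assoc,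
          ← Spec.map_comp]
        congr 2
        ext r
        exact RingHom.congr_fun hc2 r
    have := H B B' φ hφ hker α β hα hsq _ _ (key c₁ h1 h1').1 (key c₁ h1 h1').2
      (key c₂ h2 h2').1 (key c₂ h2 h2').2
    have h3 := eq_of_SpecMap_fromSpecStalk _ _ this
    ext s
    exact congrArg (fun g => g.hom s) h3
  · intro H B B' _ _ _ _ φ hφ hker α β hα hsq γ₁ γ₂ h1 h1' h2 h2'
    obtain ⟨a, haloc, ha⟩ := exists_factor α x hα
    have hβ : β.base (closedPoint B') = f.base x := by
      rw [← closedPoint_of_surj φ hφ, ← hα]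
      change (Spec.map (CommRingCat.ofHom φ) ≫ β).base (closedPoint B) = (α ≫ f).base (closedPoint B)
      rw [hsq]
    obtain ⟨b, hbloc, hb⟩ := exists_factor β (f.base x) hβ
    have hcomp : b ≫ CommRingCat.ofHom φ = f.stalkMap x ≫ a := by
      apply eq_of_SpecMap_fromSpecStalk
      rw [Spec.map_comp, Category.assoc, hb, hsq, Spec.map_comp, Category.assoc,
        Scheme.SpecMap_stalkMap_fromSpecStalk, ← Category.assoc, ha]
    have key : ∀ γ : Spec (CommRingCat.of B') ⟶ X, Spec.map (CommRingCat.ofHom φ) ≫ γ = α →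
        γ ≫ f = β → ∃ c : X.presheaf.stalk x ⟶ CommRingCat.of B',
          Spec.map c ≫ X.fromSpecStalk x = γ ∧ φ.comp c.hom = a.hom ∧
          c.hom.comp (f.stalkMap x).hom = b.hom := by
      intro γ hγ1 hγ2
      have hγx : γ.base (closedPoint B') = x := by
        rw [← closedPoint_of_surj φ hφ, ← hα, ← hγ1]
        rfl
      obtain ⟨c, hcloc, hc⟩ := exists_factor γ x hγx
      refine ⟨c, hc, ?_, ?_⟩
      · have : c ≫ CommRingCat.ofHom φ = a := by
          apply eq_of_SpecMap_fromSpecStalk
          rw [Spec.map_comp, Category.assoc, hc, hγ1, ha]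
        ext s
        exact congrArg (fun g => g.hom s) this
      · have : f.stalkMap x ≫ c = b := by
          apply eq_of_SpecMap_fromSpecStalk
          rw [Spec.map_comp, Category.assoc, Scheme.SpecMap_stalkMap_fromSpecStalk, ← Category.assoc,
            hc, hγ2, hb]
        ext r
        exact congrArg (fun g => g.hom r) this
    obtain ⟨c₁, hc₁, hc₁a, hc₁b⟩ := key γ₁ h1 h1'
    obtain ⟨c₂, hc₂, hc₂a, hc₂b⟩ := key γ₂ h2 h2'
    have := H B B' φ hφ hker a.hom b.hom haloc (by
      ext r
      exact congrArg (fun g => g.hom r) hcomp) c₁.hom c₂.hom hc₁a hc₁b hc₂a hc₂b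
    rw [← hc₁, ← hc₂]
    congr 2
    ext s
    exact RingHom.congr_fun this s

end H5.LL
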